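import Cfsg.Agent.Mrg.Omega.NO3b.ZP.Lines
import Cfsg.Agent.Mrg.Omega.NO3b.AlphaEnd


/-!
# The frame of NotFF for `Z ≤ Ω₁(Z(S))`: flags and panels (`Alpha.lean`)
-/

set_option autoImplicit false

namespace Cfsg.Agent.Omega.NO3b.ZP

open Subgroup Cfsg Cfsg.Agent.ZN Cfsg.Agent.ZN.ChoiceBase Cfsg.Agent.ZN.ChoiceSit
open Cfsg.Agent.Omega.NO3b.EZero hiding Par
open Cfsg.Agent.Omega.NO3b.K0
open Cfsg.Agent.MinSimple.EmptyTI (syl_of_le)
open Cfsg.Agent.MinSimple.MinParabolic (IsMinPar)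
open Cfsg.Agent.MinSimple.VModule (oddGen oddGen_le mem_oddGen le_normalizer_oddGen oddGen_le_of_sup)

universe u

variable {G : Type u} [Group G]

/-- `C_G(F) ∩ C_G(Ω₁(Z(S)))` -/
def CF [Finite G] (S : Sylow 2 G) (F : Subgroup G) : Subgroup G :=
  centralizer (F : Set G) ⊓ centralizer (zc (S : Subgroup G) : Set G)

/-- `F` is maximal among the `1 ≠ F ≤ V` with `C_G(F) ∩ C_G(Ω₁(Z(S))) ≰ N_G(V)`, `T ≤ S` is a Sylow 2-subgroup of
it. -/
structure Fl [Finite G] (S : Sylow 2 G) (V F T : Subgroup G) : Prop where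
  ne : F ≠ ⊥
  le : F ≤ V
  nle : ¬ CF S F ≤ normalizer (V : Set G)
  max : ∀ D : Subgroup G, F ≤ D → D ≤ V → ¬ CF S D ≤ normalizer (V : Set G) → D = F
  T_le : T ≤ (S : Subgroup G)
  syl : Syl T (CF S F)

/-- `X ≤ C_G(F) ∩ C_G(Ω₁(Z(S)))` minimal over `T` with `X ≰ N_G(V)` -/
structure Par [Finite G] (S : Sylow 2 G) (V F T X : Subgroup G) : Prop extends EZero.Par V F T X where
  cz : X ≤ centralizer (zc (S : Subgroup G) : Set G)

theorem Par.le_CF [Finite G] {S : Sylow 2 G} {V F T X : Subgroup G} (p : Par S V F T X) : X ≤ CF S F :=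
  le_inf p.le p.cz

theorem CF_anti [Finite G] (S : Sylow 2 G) {F D : Subgroup G} (h : F ≤ D) : CF S D ≤ CF S F :=
  inf_le_inf_right _ (centralizer_le h)

theorem zc_cent [Finite G] {S : Sylow 2 G} : (S : Subgroup G) ≤ centralizer (zc (S : Subgroup G) : Set G) := by
  intro s hs
  rw [mem_centralizer_iff]
  exact fun z hz => ((ChoiceBase.mem_zc.1 hz).2.2 s hs).symm

variable [Finite G] {S : Sylow 2 G} {Z J V F T X : Subgroup G}

section lines

variable (h : LinesZ S Z J V)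
include h

theorem V_le_S : V ≤ (S : Subgroup G) := h.low.trans (o2_le_syl (syl_of_le h.S_cent))

theorem V_le_Q0 : V ≤ (S : Subgroup G) ⊓ centralizer (V : Set G) := le_inf (V_le_S h) h.comm

theorem J_le_Q0 : J ≤ (S : Subgroup G) ⊓ centralizer (V : Set G) := le_inf h.JS h.JV

/-- a 2-group `T ≥ J` is normalised... : `N_G(T) ≤ N_G(J)` -/
theorem normalizer_le {T : Subgroup G} (hTS : T ≤ (S : Subgroup G)) (hJ : J ≤ T) :
    normalizer (T : Set G) ≤ normalizer (J : Set G) := by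
  intro t ht
  rw [mem_normalizer_iff_cj]
  refine h.wc t ?_
  have h1 := cj_mono t hJ
  rw [mem_normalizer_iff_cj.1 ht] at h1
  exact h1.trans hTS

theorem L0_le : normalizer (((S : Subgroup G) ⊓ centralizer (V : Set G) : Subgroup G) : Set G) ≤
    normalizer (V : Set G) := (normalizer_le h inf_le_left (J_le_Q0 h)).trans h.NJ

theorem S_le_L0 : (S : Subgroup G) ≤
    normalizer (((S : Subgroup G) ⊓ centralizer (V : Set G) : Subgroup G) : Set G) := by
  intro s hs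
  rw [mem_normalizer_iff_cj, cj_inf, cj_centralizer, mem_normalizer_iff_cj.1 (h.S_le hs)]
  congr 1
  exact cj_eq_of_mem_normalizer (Subgroup.le_normalizer hs)

/-- `C_S(V)` is a Sylow 2-subgroup of `C_G(V)` -/
theorem syl_Q0 : Syl ((S : Subgroup G) ⊓ centralizer (V : Set G)) (centralizer (V : Set G)) := by
  refine ⟨inf_le_right, isPGroup_Q0, fun Q hQ hp hle => ?_⟩
  have hQL : Q ≤ normalizer (V : Set G) := hQ.trans (centralizer_le_normalizer _)
  obtain ⟨T, hT, hQT⟩ := exists_syl hp hQL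
  obtain ⟨x, hx, hxT⟩ := syl_conj hT (syl_of_le h.S_le)
  have h1 : cj x Q ≤ (S : Subgroup G) ⊓ centralizer (V : Set G) := by
    refine le_inf ?_ ?_
    · rw [← hxT]; exact cj_mono x hQT
    · have h2 := cj_mono x hQ
      rwa [cj_centralizer, mem_normalizer_iff_cj.1 hx] at h2
  have h2 := card_le_of_le h1
  rw [card_cj] at h2
  exact (eq_of_le_of_card_ge hle h2).symm

theorem le_Q0 {R : Subgroup G} (hR : IsPGroup 2 R)
    (h1 : R ≤ normalizer (((S : Subgroup G) ⊓ centralizer (V : Set G) : Subgroup G) : Set G))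
    (h2 : R ≤ centralizer (V : Set G)) : R ≤ (S : Subgroup G) ⊓ centralizer (V : Set G) := by
  have h3 : IsPGroup 2 (((S : Subgroup G) ⊓ centralizer (V : Set G)) ⊔ R : Subgroup G) := by
    rw [sup_comm]
    exact hR.to_sup_of_normal_right' isPGroup_Q0 h1
  have h4 := (syl_Q0 h).2.2 _ (sup_le inf_le_right h2) h3 le_sup_left
  exact le_sup_right.trans h4.le

/-- **(2)** A line `V^g`, `g ∈ C_G(Ω₁(Z(S)))`, through `D ≤ V` is `V^c`, `c ∈ C_G(D) ∩ C_G(Ω₁(Z(S)))`. -/
theorem exists_cz {D : Subgroup G} (hD : D ≤ V) {g : G} (hg : g ∈ centralizer (zc (S : Subgroup G) : Set G))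
    (hDg : D ≤ cj g V) : ∃ c ∈ CF S D, cj c V = cj g V := by
  have h0 : J ≤ centralizer (zc (S : Subgroup G) : Set G) := h.JS.trans zc_cent
  have h1 : cj 1 J ≤ CF S D := by
    rw [cj_one]; exact le_inf (h.JV.trans (centralizer_le hD)) h0
  have h2 : cj g J ≤ CF S D := by
    refine le_inf ((cj_cent h.JV).trans (centralizer_le hDg)) ?_
    have h3 := cj_mono g h0
    rwa [cj_eq_of_mem_normalizer (Subgroup.le_normalizer hg)] at h3
  obtain ⟨x, hx, hxg⟩ := h.exists_conj h1 h2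
  rw [cj_one] at hxg
  exact ⟨x, hx, hxg⟩

/-- **(2)** A line through `D ≤ V` is `V^c`, `c ∈ C_G(D)`. -/
theorem exists_c {D : Subgroup G} (hD : D ≤ V) {g : G} (hDg : D ≤ cj g V) :
    ∃ c ∈ centralizer (D : Set G), cj c V = cj g V := by
  have h1 : cj 1 J ≤ centralizer (D : Set G) := by
    rw [cj_one]; exact h.JV.trans (centralizer_le hD)
  have h2 : cj g J ≤ centralizer (D : Set G) := (cj_cent h.JV).trans (centralizer_le hDg)
  obtain ⟨x, hx, hxg⟩ := h.exists_conj h1 h2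
  rw [cj_one] at hxg
  exact ⟨x, hx, hxg⟩

/-- **`F ≥ Z` exists**: maximal among the `F ≤ V` which contain `Z` and have `C_G(F) ∩ C_G(Ω₁(Z(S))) ≰ N_G(V)`. -/
theorem exists_fl_zc (hnz : ¬ centralizer (zc (S : Subgroup G) : Set G) ≤ normalizer (V : Set G)) :
    ∃ F T, Fl S V F T ∧ Z ≤ F := by
  obtain ⟨F, hF, hmax⟩ := Set.exists_max_image
    {F : Subgroup G | Z ≤ F ∧ F ≤ V ∧ ¬ CF S F ≤ normalizer (V : Set G)}
    (fun F => Nat.card F) (Set.toFinite _) ⟨_, le_rfl, h.ZV, fun h0 => hnz (le_trans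
      (le_inf (centralizer_le h.Zc) le_rfl) h0)⟩
  have hJ : J ≤ CF S F := le_inf (h.JV.trans (centralizer_le hF.2.1)) (h.JS.trans zc_cent)
  obtain ⟨T, hT, hJT⟩ := exists_syl (S.isPGroup'.to_le h.JS) hJ
  have hTV : T ≤ normalizer (V : Set G) := by
    have h1 := h.le_norm_of hT.2.1 (a := 1) (by rw [cj_one]; exact hJT)
    rwa [cj_one] at h1
  have hTZ : T ≤ centralizer (zc (S : Subgroup G) : Set G) := hT.1.trans inf_le_right
  obtain ⟨T₁, hT₁, hTT₁⟩ := exists_syl hT.2.1 (le_inf hTZ hTV)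
  obtain ⟨c, hc, hcT⟩ := syl_conj hT₁ (syl_of_le (le_inf zc_cent h.S_le))
  have hcV : cj c V = V := mem_normalizer_iff_cj.1 hc.2
  have hciV : cj c⁻¹ V = V := mem_normalizer_iff_cj.1 (inv_mem hc.2)
  have hcZ : cj c Z = Z :=
    cj_eq_of_mem_normalizer (centralizer_le_normalizer _ (centralizer_le h.Zc hc.1))
  have hN : cj c (normalizer (V : Set G)) = normalizer (V : Set G) :=
    cj_eq_of_mem_normalizer (Subgroup.le_normalizer hc.2)
  have hCF : ∀ D : Subgroup G, CF S (cj c D) = cj c (CF S D) := by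
    intro D
    rw [CF, CF, cj_inf, cj_centralizer, cj_eq_of_mem_normalizer (Subgroup.le_normalizer hc.1)]
  have hZ : Z ≤ cj c F := by
    have h1 := cj_mono c hF.1
    rwa [hcZ] at h1
  refine ⟨cj c F, cj c T, ⟨?_, ?_, ?_, ?_, ?_, ?_⟩, hZ⟩
  · intro h0
    exact h.Zne (le_bot_iff.1 (hZ.trans h0.le))
  · have h1 := cj_mono c hF.2.1
    rwa [hcV] at h1
  · intro h0
    apply hF.2.2
    rw [hCF, ← hN] at h0
    have h1 := cj_mono c⁻¹ h0
    rwa [cj_inv_cj, cj_inv_cj] at h1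
  · intro D hFD hD hn
    have h1 : F ≤ cj c⁻¹ D := by
      have h2 := cj_mono c⁻¹ hFD
      rwa [cj_inv_cj] at h2
    have h2 : cj c⁻¹ D ≤ V := by
      have h3 := cj_mono c⁻¹ hD
      rwa [hciV] at h3
    have h3 : ¬ CF S (cj c⁻¹ D) ≤ normalizer (V : Set G) := by
      intro h0
      apply hn
      have h4 := cj_mono c h0
      rwa [← hCF, cj_cj_inv, hN] at h4
    have h4 := eq_of_le_of_card_ge h1 (hmax (cj c⁻¹ D) ⟨hF.1.trans h1, h2, h3⟩)
    rw [h4, cj_cj_inv]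
  · refine (cj_mono c hTT₁).trans hcT.le
  · rw [hCF]
    refine ⟨cj_mono _ hT.1, isPGroup_cj _ hT.2.1, fun Q hQ hp hle => ?_⟩
    have h2 := hT.2.2 (cj c⁻¹ Q) (by
      rw [cj_le_iff, inv_inv]; exact hQ) (isPGroup_cj _ hp) (by
      have h3 := cj_mono c⁻¹ hle
      rwa [cj_inv_cj] at h3)
    rw [← h2, cj_cj_inv]

end lines

/-! ### `F`, `T`, `X` -/

namespace Fl

variable (f : Fl S V F T)
include f

theorem T_eq : (S : Subgroup G) ⊓ centralizer (F : Set G) = T :=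
  f.syl.2.2 _ (le_inf inf_le_right (inf_le_left.trans zc_cent)) (S.isPGroup'.to_le inf_le_left)
    (le_inf f.T_le (f.syl.1.trans inf_le_left))

theorem T_cent : T ≤ centralizer (F : Set G) := f.syl.1.trans inf_le_left

theorem ne_V : F ≠ V := by
  rintro rfl
  exact f.nle (inf_le_left.trans (centralizer_le_normalizer _))

theorem Q0_le : (S : Subgroup G) ⊓ centralizer (V : Set G) ≤ T := by
  rw [← f.T_eq]
  exact inf_le_inf_left _ (centralizer_le f.le)

/-- the minimal parabolic -/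
theorem exists_par : ∃ X, Par S V F T X := by
  obtain ⟨X, hX, hmin⟩ := Set.exists_min_image {P : Subgroup G | T ≤ P ∧ P ≤ CF S F ∧
      ¬ P ≤ normalizer (V : Set G)} (fun P => Nat.card P) (Set.toFinite _) ⟨_, f.syl.1, le_rfl, f.nle⟩
  refine ⟨X, ⟨hX.1, hX.2.1.trans inf_le_left, hX.2.2, fun M hTM hMP hne => ?_⟩, hX.2.1.trans inf_le_right⟩
  by_contra hcon
  exact hne (eq_of_le_of_card_ge hMP (hmin M ⟨hTM, hMP.trans hX.2.1, hcon⟩))

theorem sylX (p : Par S V F T X) : Syl T X :=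
  ⟨p.T_le, f.syl.2.1, fun Q hQ hp hle => f.syl.2.2 Q (hQ.trans p.le_CF) hp hle⟩

variable (h : LinesZ S Z J V)
include h

theorem isMinPar (p : Par S V F T X) : IsMinPar T X := by
  refine ⟨p.T_le, fun h0 => p.nle ?_, X ⊓ normalizer (V : Set G), ?_, fun K hK hKP =>
    le_inf hKP.le (p.min K hK hKP.le hKP.ne)⟩
  · exact h0.trans ((normalizer_le h f.T_le ((J_le_Q0 h).trans f.Q0_le)).trans h.NJ)
  · exact lt_of_le_of_ne inf_le_left fun h1 => p.nle (inf_eq_left.1 h1)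

/-- `V ∩ V^x = F` for `x ∈ C_G(F) ∩ C_G(Ω₁(Z(S))) - N_G(V)` -/
theorem line {x : G} (hx : x ∈ CF S F) (hxV : x ∉ normalizer (V : Set G)) :
    V ⊓ cj x V = F := by
  have hxF : cj x F = F := cj_eq_of_mem_normalizer (centralizer_le_normalizer _ hx.1)
  refine f.max _ (le_inf f.le ?_) inf_le_left fun hcon => ?_
  · have h1 := cj_mono x f.le
    rwa [hxF] at h1
  · obtain ⟨c, hc, hcx⟩ := exists_cz h (D := V ⊓ cj x V) inf_le_left hx.2 inf_le_right
    apply hxV
    rw [mem_normalizer_iff_cj, ← hcx]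
    exact mem_normalizer_iff_cj.1 (hcon hc)

/-- **all fields of `K0.Base`** -/
theorem base (p : Par S V F T X)
    (hti : ∀ g : G, V ⊓ cj g V ≠ ⊥ → V ≤ centralizer ((cj g V : Subgroup G) : Set G))
    (hnl : ∀ R : Subgroup G, IsPGroup 2 R →
      normalizer (((S : Subgroup G) ⊓ centralizer (V : Set G) : Subgroup G) : Set G) ≤ normalizer (R : Set G) →
      X ≤ normalizer (R : Set G) → R = ⊥) :
    Base V F T X (normalizer (((S : Subgroup G) ⊓ centralizer (V : Set G) : Subgroup G) : Set G))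
      ((S : Subgroup G) ⊓ centralizer (V : Set G)) where
  sq := h.sq
  comm := h.comm
  nff := h.nff
  F_le := f.le
  F_ne := f.ne_V
  F_ne_bot := f.ne
  X_le := p.le
  syl := f.sylX p
  mp := f.isMinPar h p
  nle := p.nle
  T_le := f.T_le.trans (S_le_L0 h)
  L_le := L0_le h
  Q0_le := f.Q0_le
  L_Q0 := le_rfl
  Q0_cent := inf_le_right
  le_Q0 := fun _ hR h1 h2 => le_Q0 h hR h1 h2
  V_le := V_le_Q0 h
  line := fun _ hx hxV => f.line h (p.le_CF hx) hxV
  ti := hti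
  nonloc := hnl

/-- **ALPHA, the end**: for every choice of `X`, some nontrivial 2-subgroup is normalised by `N_G(C_S(V))` and `X`,
or `C_U(T) ≰ C(O²(X))`, `U = ⟨V^X⟩`. -/
theorem local_or (hA : FFBr.AStmt.{u}) (p : Par S V F T X)
    (hti : ∀ g : G, V ⊓ cj g V ≠ ⊥ → V ≤ centralizer ((cj g V : Subgroup G) : Set G)) :
    (∃ R : Subgroup G, R ≠ ⊥ ∧ IsPGroup 2 R ∧
      normalizer (((S : Subgroup G) ⊓ centralizer (V : Set G) : Subgroup G) : Set G) ≤ normalizer (R : Set G) ∧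
      X ≤ normalizer (R : Set G)) ∨
    ¬ cl V X ⊓ centralizer (T : Set G) ≤ centralizer (oddGen X : Set G) := by
  by_contra hcon
  push Not at hcon
  refine (f.base h p hti fun R hR h1 h2 => ?_).absurd (noOv hA (f.sylX p) (f.isMinPar h p))
    (fullOff hA (f.sylX p) (f.isMinPar h p)) hcon.2
  by_contra hne
  exact hcon.1 R hne hR h1 h2

end Fl

/-- **TI** in the form of `K0.Base` -/
theorem ti (hG : IsCharacteristicTwoType G) (h : LinesZ S Z J V) (g : G) (hg : V ⊓ cj g V ≠ ⊥) :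
    V ≤ centralizer ((cj g V : Subgroup G) : Set G) := by
  have h1 := h.comm_of_inter (h.char2 hG) (a := 1) (b := g) (by rwa [cj_one])
  rwa [cj_one] at h1

/-- **ALPHA, the end**, from `Lines` and characteristic 2 type; `F` is maximal and contains `Z = Ω₁(Z(S))`. -/
theorem local_or (hA : FFBr.AStmt.{u}) (hG : IsCharacteristicTwoType G) (h : LinesZ S Z J V)
    (hnz : ¬ centralizer (zc (S : Subgroup G) : Set G) ≤ normalizer (V : Set G)) :
    ∃ F T, Fl S V F T ∧ Z ≤ F ∧ (∃ X, Par S V F T X) ∧ ∀ X, Par S V F T X →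
      (∃ R : Subgroup G, R ≠ ⊥ ∧ IsPGroup 2 R ∧
        normalizer (((S : Subgroup G) ⊓ centralizer (V : Set G) : Subgroup G) : Set G) ≤
          normalizer (R : Set G) ∧ X ≤ normalizer (R : Set G)) ∨
      ¬ cl V X ⊓ centralizer (T : Set G) ≤ centralizer (oddGen X : Set G) := by
  obtain ⟨F, T, f, hZ⟩ := exists_fl_zc h hnz
  exact ⟨F, T, f, hZ, f.exists_par, fun X p => f.local_or h hA p fun g hg => ti hG h g hg⟩

end Cfsg.Agent.Omega.NO3b.ZP
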